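import Groth.Agent.LieCentral.Grading
import Groth.Agent.GrpSchLib.AffineHopf
import Groth.Agent.LieSLib.Bracket
import Groth.Agent.S8361
import Mathlib.Algebra.Lie.Nilpotent

/-!
# The bracket with a tangent vector of a diagonalisable subgroup

For `f : A →ₐc k[Λ]` and an additive character `φ` of `Λ`, the bracket of the tangent vector of the subgroup
given by `φ` with the tangent vector `δ` is `δ ∘ P` where `P` multiplies the component of weight `m` by `φ m`.
-/

universe u

open CategoryTheory MonoidalCategory CartesianMonoidalCategory MonObj AlgebraicGeometry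
open TensorProduct WithConv

set_option autoImplicit false
set_option backward.isDefEq.respectTransparency false
set_option backward.isDefEq.respectTransparency.types false
set_option linter.style.haveILetI false
set_option synthInstance.maxHeartbeats 200000
set_option maxHeartbeats 1000000

namespace Groth.Agent.LieCentral

open RedRank.CentreWeights RedOpen GrpSchLib.AffineHopf LieS LieSLib

variable {k : Type u} [Field k] {A : Type u} [CommRing A] [HopfAlgebra k A] {Λ : Type} [CommGroup Λ]

/-- An additive character. -/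
def IsChar (φ : Λ → k) : Prop := ∀ m l, φ (m * l) = φ m + φ l

theorem IsChar.map_one {φ : Λ → k} (hφ : IsChar φ) : φ 1 = 0 := by
  simpa using hφ 1 1

section Weight

variable (f : A →ₐc[k] MonoidAlgebra k Λ) (φ : Λ → k)

/-- The weighted sum of components. -/
noncomputable def wsum : A →ₗ[k] A where
  toFun a := (coact f a).coeff.sum fun m r => φ m • r
  map_add' a b := by
    rw [map_add, MonoidAlgebra.coeff_add, Finsupp.sum_add_index' (fun m => smul_zero _) (fun m r s => smul_add _ r s)]
  map_smul' c a := by
    rw [map_smul, RingHom.id_apply, MonoidAlgebra.coeff_smul, Finsupp.sum_smul_index' (fun m => smul_zero _),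
      Finsupp.smul_sum]
    exact Finsupp.sum_congr fun m _ => smul_comm _ _ _

theorem wsum_apply (a : A) : wsum f φ a = (coact f a).coeff.sum fun m r => φ m • r := rfl

/-- The weighted sum scales a component by its weight. -/
theorem wsum_comp (m : Λ) (a : A) : wsum f φ (comp f m a) = φ m • comp f m a := by
  classical
  have h : (coact f (comp f m a)).coeff = Finsupp.single m (comp f m a) := Finsupp.ext fun l => by
    rw [Finsupp.single_apply]
    exact (comp_comp f l m a).trans (by by_cases h : m = l <;> simp [h])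
  rw [wsum_apply, h]
  exact Finsupp.sum_single_index (h := fun l r => φ l • r) (smul_zero _)

theorem pow_wsum_comp (n : ℕ) (m : Λ) (a : A) : (wsum f φ ^ n) (comp f m a) = φ m ^ n • comp f m a := by
  induction n with
  | zero => simp
  | succ n ih => rw [pow_succ, Module.End.mul_apply, wsum_comp, map_smul, ih, smul_smul, pow_succ']

variable {δ : A →ₗ[k] k} (hδ : IsTangent δ)

include hδ in
theorem isTangent_comp_wsum : IsTangent (δ.comp (wsum f φ)) := by
  classical
  intro x y
  let ε := Bialgebra.counitAlgHom k A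
  let s := (coact f (x * y)).coeff.support ∪ ((coact f x).coeff.support ∪ (coact f y).coeff.support)
  have hs : ∀ a : A, (coact f a).coeff.support ⊆ s →
      δ (wsum f φ a) = ∑ m ∈ s, φ m * δ ((coact f a).coeff m) := fun a ha => by
    rw [wsum_apply, Finsupp.sum_of_support_subset _ ha _ (fun m _ => smul_zero _), map_sum]
    simp
  simp only [LinearMap.comp_apply]
  rw [hs _ Finset.subset_union_left, hs x (Finset.subset_union_left.trans Finset.subset_union_right),
    hs y (Finset.subset_union_right.trans Finset.subset_union_right), Finset.mul_sum, Finset.mul_sum,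
    ← Finset.sum_add_distrib]
  refine Finset.sum_congr rfl fun m _ => ?_
  rw [map_mul, deriv_coeff_mul ε δ (coact f x) (coact f y) (ε x) (ε y)
    (fun l => counit_comp f l x) (fun l => counit_comp f l y) hδ m]
  ring

include hδ in
theorem isTangent_pow (n : ℕ) : IsTangent (δ.comp (wsum f φ ^ n)) := by
  induction n with
  | zero => rw [pow_zero]; exact hδ
  | succ n ih =>
    rw [pow_succ, Module.End.mul_eq_comp, ← LinearMap.comp_assoc]
    exact isTangent_comp_wsum f φ ih

end Weight

section Square

variable {C : Type u} [CommRing C] [Algebra k C]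

/-- The algebra map of dual numbers given by an element of square zero. -/
noncomputable def dl (c : C) (hc : c * c = 0) : DualNumber k →ₐ[k] C :=
  { dualHom (algebraMap k C) c hc with
    commutes' := fun r => DFunLike.congr_fun (dualHom_comp_algebraMap (algebraMap k C) c hc) r }

@[simp] theorem dl_apply (c : C) (hc : c * c = 0) (x : DualNumber k) :
    dl c hc x = algebraMap k C x.fst + algebraMap k C x.snd * c := rfl

/-- The multiplicative character given by an additive one. -/
noncomputable def chi {φ : Λ → k} (hφ : IsChar φ) (c : C) (hc : c * c = 0) : Λ →* C where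
  toFun m := 1 + φ m • c
  map_one' := by simp [hφ.map_one]
  map_mul' m l := by
    rw [hφ m l, add_smul]
    linear_combination (norm := (simp only [Algebra.smul_def]; ring1))
      (-(algebraMap k C (φ m) * algebraMap k C (φ l))) * hc

variable {δ : A →ₗ[k] k} (hδ : IsTangent δ)

/-- The point of a tangent vector. -/
noncomputable def tp (c : C) (hc : c * c = 0) : A →ₐ[k] C :=
  (dl c hc).comp (tangent (Bialgebra.counitAlgHom k A) δ hδ)

theorem tp_apply (c : C) (hc : c * c = 0) (a : A) :
    tp hδ c hc a = algebraMap k C (Bialgebra.counitAlgHom k A a) + δ a • c := by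
  simp [tp, Algebra.smul_def]

variable (f : A →ₐc[k] MonoidAlgebra k Λ) {φ : Λ → k} (hφ : IsChar φ)

/-- Conjugation of a tangent vector by an infinitesimal point of the subgroup. -/
theorem conj_tp (s t : C) (hs : s * s = 0) (ht : t * t = 0) (hts : t * s * (t * s) = 0) :
    conj f (chi hφ s hs) (toConv (tp hδ t ht)) =
      toConv (tp (isTangent_comp_wsum f φ hδ) (t * s) hts) * toConv (tp hδ t ht) := by
  classical
  refine WithConv.ext (AlgHom.ext fun a => ?_)
  let ε := Bialgebra.counitAlgHom k A
  have hL : (conj f (chi hφ s hs) (toConv (tp hδ t ht))).ofConv a =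
      algebraMap k C (ε a) + δ a • t + δ (wsum f φ a) • (t * s) := by
    rw [conj_apply]
    have e : ∀ m r, tp hδ t ht r * chi hφ s hs m =
        tp hδ t ht r + ((φ m * ε r) • s + δ (φ m • r) • (t * s)) := fun m r => by
      rw [tp_apply, map_smul]
      show _ * (1 + φ m • s) = _
      simp only [smul_eq_mul, Algebra.smul_def, map_mul]
      ring
    rw [show ((coact f a).coeff.sum fun m r => tp hδ t ht r * chi hφ s hs m) = (coact f a).coeff.sum fun m r =>
        tp hδ t ht r + ((φ m * ε r) • s + δ (φ m • r) • (t * s)) from Finsupp.sum_congr fun m _ => e m _,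
      Finsupp.sum_add, Finsupp.sum_add, ← map_finsuppSum, sum_comp, tp_apply]
    congr 1
    have hz : ((coact f a).coeff.sum fun m r => (φ m * ε r) • s) = 0 := Finset.sum_eq_zero fun m _ => by
      show (φ m * ε (comp f m a)) • s = 0
      rw [counit_comp]
      by_cases hm : m = 1
      · rw [hm, hφ.map_one, zero_mul, zero_smul]
      · rw [if_neg hm, mul_zero, zero_smul]
    rw [hz, zero_add, wsum_apply, map_finsuppSum, Finsupp.sum, Finsupp.sum, Finset.sum_smul]
  rw [hL, AlgHom.convMul_apply]
  let R := Coalgebra.Repr.arbitrary k a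
  rw [← R.eq, map_sum]
  simp only [Algebra.TensorProduct.lift_tmul, WithConv.ofConv_toConv, tp_apply]
  have e : ∀ x y : A, (algebraMap k C (ε x) + (δ.comp (wsum f φ)) x • (t * s)) *
      (algebraMap k C (ε y) + δ y • t) =
      algebraMap k C (ε x * ε y) + (ε x * δ y) • t + (δ (wsum f φ x) * ε y) • (t * s) := fun x y => by
    simp only [LinearMap.comp_apply, Algebra.smul_def, map_mul]
    linear_combination (algebraMap k C (δ (wsum f φ x)) * algebraMap k C (δ y) * s) * ht
  refine Eq.trans ?_ (Finset.sum_congr rfl fun i _ => e (R.left i) (R.right i)).symm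
  rw [Finset.sum_add_distrib, Finset.sum_add_distrib, ← map_sum, ← Finset.sum_smul, ← Finset.sum_smul]
  have h1 : ∀ g : A →ₗ[k] k, ∑ i ∈ R.index, ε (R.left i) * g (R.right i) = g a := fun g => by
    conv_rhs => rw [← Coalgebra.sum_counit_smul R, map_sum]
    exact Finset.sum_congr rfl fun i _ => by rw [map_smul]; rfl
  have h2 : ∀ g : A →ₗ[k] k, ∑ i ∈ R.index, g (R.left i) * ε (R.right i) = g a := fun g => by
    have h := congrArg (TensorProduct.rid k k) (Coalgebra.sum_map_tmul_counit_eq g a (repr := R))
    rw [map_sum, TensorProduct.rid_tmul, one_smul] at h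
    refine Eq.trans (Finset.sum_congr rfl fun i _ => ?_) h
    rw [TensorProduct.rid_tmul, smul_eq_mul, _root_.mul_comm]
    rfl
  congr 3
  · exact (h1 ε.toLinearMap).symm
  · exact (h1 δ).symm
  · exact (h2 (δ.comp (wsum f φ))).symm

end Square

section Generic

/-- An element reducing to the unit lies in the Lie algebra. -/
theorem mem_Lie_of_mor {S : Scheme.{u}} {G : Over S} [GrpObj G] {B : Type u} [CommRing B]
    {f : Spec (CommRingCat.of B) ⟶ S} (x : dpt B f ⟶ G)
    (e : mor f (TrivSqZeroExt.fstHom B B B).toRingHom (fstHom_comp_algebraMap B) ≫ x = 1) : x ∈ Lie G B f := by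
  rw [mem_Lie_iff, zeroSec_eq]
  exact (Category.assoc _ _ _).trans ((congrArg _ e).trans (MonObj.comp_one _))

end Generic

section Scheme

variable {G : Over (Spec (CommRingCat.of k))} [GrpObj G]

/-- The structure map of the base point. -/
noncomputable abbrev f₀ (k : Type u) [Field k] : Spec (CommRingCat.of k) ⟶ Spec (CommRingCat.of k) :=
  Spec.map (CommRingCat.ofHom (algebraMap k k))

/-- The spectrum of an algebra, compared with the point over the base point. -/
noncomputable def jC (C : Type u) [CommRing C] [Algebra k C] : obj (f₀ k) C ⟶ sp k C :=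
  (Over.isoMk (Iso.refl (Spec (CommRingCat.of C))) (by
    change 𝟙 _ ≫ Spec.map _ = Spec.map _ ≫ Spec.map _
    rw [Category.id_comp, specMap_comp, Algebra.algebraMap_self, RingHom.comp_id]) :
      obj (f₀ k) C ≅ sp k C).hom

instance (C : Type u) [CommRing C] [Algebra k C] : IsIso (jC (k := k) C) := Iso.isIso_hom _

theorem jC_left (C : Type u) [CommRing C] [Algebra k C] :
    (jC (k := k) C).left = 𝟙 (Spec (CommRingCat.of C)) := rfl

variable (eh : sp k A ⟶ G) [IsMonHom eh] {C : Type u} [CommRing C] [Algebra k C]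

/-- The point of the group given by an algebra map. -/
noncomputable def pt' (P : WithConv (A →ₐ[k] C)) : obj (f₀ k) C ⟶ G := jC C ≫ spMap P.ofConv ≫ eh

theorem pt'_mul (P Q : WithConv (A →ₐ[k] C)) : pt' eh (P * Q) = pt' eh P * pt' eh Q := by
  rw [pt', pt', pt', ← MonObj.comp_mul, ← MonObj.mul_comp, spMap_mul]

theorem pt'_one : pt' eh (1 : WithConv (A →ₐ[k] C)) = 1 := by
  have h := pt'_mul eh (1 : WithConv (A →ₐ[k] C)) 1
  rw [_root_.mul_one] at h
  exact mul_eq_left.mp h.symm

theorem mor_pt' {C' : Type u} [CommRing C'] [Algebra k C'] (ψ : C →ₐ[k] C')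
    (h : (ψ : C →+* C').comp (algebraMap k C) = algebraMap k C') (P : WithConv (A →ₐ[k] C)) :
    mor (f₀ k) (ψ : C →+* C') h ≫ pt' eh P = pt' eh (toConv (ψ.comp P.ofConv)) := by
  have e : mor (f₀ k) (ψ : C →+* C') h ≫ jC C = jC C' ≫ spMap ψ :=
    Over.OverMorphism.ext (by
      show Spec.map _ ≫ 𝟙 _ = 𝟙 _ ≫ Spec.map _
      rw [Category.comp_id, Category.id_comp]
      rfl)
  rw [pt', pt', ← Category.assoc, e, Category.assoc, ← Category.assoc (spMap ψ), spMap_comp]

theorem pt'_injective [Mono eh] {P Q : WithConv (A →ₐ[k] C)} (h : pt' eh P = pt' eh Q) : P = Q := by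
  exact WithConv.ext (spMap_injective ((cancel_mono eh).mp ((cancel_epi (jC C)).mp h)))

/-- A point of dual numbers reducing to the unit as an element of the Lie algebra. -/
theorem mem_Lie_pt' (P : WithConv (A →ₐ[k] DualNumber k))
    (hP : toConv ((TrivSqZeroExt.fstHom k k k).comp P.ofConv) = 1) :
    (pt' eh P : dpt k (f₀ k) ⟶ G) ∈ Lie G k (f₀ k) :=
  mem_Lie_of_mor (f := f₀ k) _
    ((mor_pt' eh (TrivSqZeroExt.fstHom k k k) (fstHom_comp_algebraMap k) P).trans
      ((congrArg (pt' eh) hP).trans (pt'_one eh)))

variable {δ : A →ₗ[k] k}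

/-- The tangent vector as an element of the Lie algebra. -/
noncomputable def gd (hδ : IsTangent δ) : Lie G k (f₀ k) :=
  ⟨pt' eh (toConv (tangent (Bialgebra.counitAlgHom k A) δ hδ)),
    mem_Lie_pt' eh _ (WithConv.ext (AlgHom.ext fun a => by simp [AlgHom.convOne_apply]))⟩

theorem ev_gd (hδ : IsTangent δ) (c : C) (hc : c * c = 0) : ev (gd eh hδ) c hc = pt' eh (toConv (tp hδ c hc)) :=
  mor_pt' eh (dl c hc) (dualHom_comp_algebraMap (algebraMap k C) c hc) _

theorem gd_congr {δ' : A →ₗ[k] k} (hδ : IsTangent δ) (hδ' : IsTangent δ') (e : δ = δ') :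
    gd eh hδ = gd eh hδ' := by
  subst e
  rfl

theorem eq_zero_of_gd_eq_one [Mono eh] (hδ : IsTangent δ) (h : gd eh hδ = 1) : δ = 0 := by
  have h1 := pt'_injective eh ((congrArg Subtype.val h).trans
    (pt'_one (C := DualNumber k) eh).symm)
  refine LinearMap.ext fun a => ?_
  have h2 := congrArg (fun P : WithConv (A →ₐ[k] DualNumber k) => (P.ofConv a).snd) h1
  simpa [AlgHom.convOne_apply, TrivSqZeroExt.algebraMap_eq_inl'] using h2

variable (f : A →ₐc[k] MonoidAlgebra k Λ) {φ : Λ → k} (hφ : IsChar φ)

/-- The tangent vector of the subgroup given by an additive character. -/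
noncomputable def xi : Lie G k (f₀ k) :=
  ⟨pt' eh (pull f (chi hφ DualNumber.eps (eps_sq k))), mem_Lie_pt' eh _ (by
    refine (post_pull f (TrivSqZeroExt.fstHom k k k) _).trans ?_
    rw [show ((TrivSqZeroExt.fstHom k k k : DualNumber k →ₐ[k] k) : DualNumber k →* k).comp
      (chi hφ DualNumber.eps (eps_sq k)) = 1 from MonoidHom.ext fun m => by simp [chi]]
    exact pull_one f)⟩

theorem ev_xi (c : C) (hc : c * c = 0) : ev (xi eh f hφ) c hc = pt' eh (pull f (chi hφ c hc)) := by
  refine (mor_pt' eh (dl c hc) (dualHom_comp_algebraMap (algebraMap k C) c hc) _).trans ?_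
  rw [show toConv ((dl c hc).comp (pull f (chi hφ DualNumber.eps (eps_sq k))).ofConv) =
    post (dl c hc) (pull f (chi hφ DualNumber.eps (eps_sq k))) from rfl, post_pull]
  congr 2
  refine MonoidHom.ext fun m => ?_
  simp [chi, Algebra.smul_def, TrivSqZeroExt.algebraMap_eq_inl']

/-- The bracket with the tangent vector of a subgroup is the weighted sum. -/
theorem br_xi (hδ : IsTangent δ) : br (xi eh f hφ) (gd eh hδ) = gd eh (isTangent_comp_wsum f φ hδ) := by
  refine br_unique ?_
  rw [ev_xi, ev_gd, ev_gd, com]
  have hinv : (pt' eh (pull f (chi hφ (e2 k) (e2_sq k))))⁻¹ =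
      pt' eh (pull f (inv' (chi hφ (e2 k) (e2_sq k)))) :=
    inv_eq_of_mul_eq_one_right (by rw [← pt'_mul, pull_mul_inv', pt'_one])
  rw [hinv, mul_inv_eq_iff_eq_mul, ← pt'_mul, ← pt'_mul, ← pt'_mul]
  exact congrArg (pt' eh) (conj_tp hδ f hφ (e2 k) (e1 k) (e2_sq k) (e1_sq k) (e12_sq k))

end Scheme

section Model

variable {G : Over (Spec (CommRingCat.of k))} [GrpObj G] (eh : sp k A ⟶ G) [IsMonHom eh] [Mono eh]
  (f : A →ₐc[k] MonoidAlgebra k Λ) {L : Type u} [LieRing L] [LieAlgebra k L]

include eh in
/-- With a nilpotent Lie algebra, a weight of non-zero differential is invisible on tangent vectors. -/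
theorem tangent_comp_eq_zero (mdl : LieS.Model G k (f₀ k) L) (hL : LieRing.IsNilpotent L) {φ : Λ → k}
    (hφ : IsChar φ) {δ : A →ₗ[k] k} (hδ : IsTangent δ) {m : Λ} (hm : φ m ≠ 0) (a : A) :
    δ (comp f m a) = 0 := by
  let x : L := Multiplicative.toAdd (mdl.e.symm (xi eh f hφ))
  let y : L := Multiplicative.toAdd (mdl.e.symm (gd eh hδ))
  have hx : mdl.e (Multiplicative.ofAdd x) = xi eh f hφ := mdl.e.apply_symm_apply _
  have key : ∀ n : ℕ, mdl.e (Multiplicative.ofAdd ((fun z => ⁅x, z⁆)^[n] y)) =
      gd eh (isTangent_pow f φ hδ n) := by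
    intro n
    induction n with
    | zero =>
      rw [Function.iterate_zero, id]
      exact (mdl.e.apply_symm_apply _).trans (gd_congr eh _ _ (by simp [Module.End.one_eq_id]))
    | succ n ih =>
      rw [Function.iterate_succ_apply']
      have h := mdl.e_lie x ((fun z => ⁅x, z⁆)^[n] y)
      rw [hx, ih] at h
      rw [S8361.result _ G k (f₀ k) _ _ _ _ h (isBracket_br _ _), br_xi]
  haveI := hL
  obtain ⟨n, hn⟩ := LieAlgebra.nilpotent_ad_of_nilpotent_algebra k L
  have h0 : (fun z => ⁅x, z⁆)^[n] y = 0 := by
    have h := LinearMap.congr_fun (hn x) y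
    rwa [Module.End.coe_pow, LinearMap.zero_apply] at h
  have h1 := key n
  rw [h0, ofAdd_zero, map_one] at h1
  have h2 := LinearMap.congr_fun (eq_zero_of_gd_eq_one eh _ h1.symm) (comp f m a)
  rw [LinearMap.comp_apply, pow_wsum_comp, map_smul, LinearMap.zero_apply, smul_eq_mul] at h2
  exact (mul_eq_zero.mp h2).resolve_left (pow_ne_zero _ hm)

end Model

end Groth.Agent.LieCentral
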