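import Groth.Agent.RedOpen.WeightDeriv

/-!
# Weights invisible on the tangent space of a connected group are absent

If the components of a subgroup of weights vanish on all tangent vectors at the unit of a group with integral
coordinate ring, they vanish, and the corresponding subgroup is central.
-/

universe u

open TensorProduct WithConv

set_option autoImplicit false
set_option backward.isDefEq.respectTransparency false
set_option backward.isDefEq.respectTransparency.types false
set_option linter.style.haveILetI false
set_option maxHeartbeats 1000000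

namespace Groth.Agent.LieCentral

open RedRank.CentreWeights RedOpen

variable {k : Type u} [Field k] {A : Type u} [CommRing A] [HopfAlgebra k A] {Λ : Type} [CommGroup Λ]
  (f : A →ₐc[k] MonoidAlgebra k Λ)

/-- A tangent vector at the unit. -/
def IsTangent (δ : A →ₗ[k] k) : Prop :=
  ∀ x y, δ (x * y) = Bialgebra.counitAlgHom k A x * δ y + Bialgebra.counitAlgHom k A y * δ x

/-- An element killed by the counit and by every tangent vector lies in the square of the augmentation ideal. -/
theorem mem_sq (x : A) (hx : Bialgebra.counitAlgHom k A x = 0) (h : ∀ δ : A →ₗ[k] k, IsTangent δ → δ x = 0) :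
    x ∈ RingHom.ker (Bialgebra.counitAlgHom k A).toRingHom ^ 2 := by
  let ε := Bialgebra.counitAlgHom k A
  let I : Ideal A := RingHom.ker ε.toRingHom
  by_contra hx2
  obtain ⟨φ, hφx, hφ⟩ := Submodule.exists_dual_map_eq_bot_of_notMem
    (p := (I ^ 2).restrictScalars k) (x := x) (fun h => hx2 ((Submodule.restrictScalars_mem k (I ^ 2) x).mp h)) inferInstance
  have hφ' : ∀ z ∈ I ^ 2, φ z = 0 := fun z hz =>
    (Submodule.mem_bot k).mp (hφ ▸ Submodule.mem_map_of_mem (f := φ) (show z ∈ (I ^ 2).restrictScalars k from hz))
  let P : A →ₗ[k] A := LinearMap.id - (Algebra.linearMap k A).comp ε.toLinearMap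
  have hP : ∀ c, P c = c - algebraMap k A (ε c) := fun c => rfl
  have hPI : ∀ c, P c ∈ I := fun c => by
    show ε (P c) = 0
    simp [hP]
  refine hφx ?_
  have ht : IsTangent (φ.comp P) := fun a b => by
    show φ (P (a * b)) = ε a * φ (P b) + ε b * φ (P a)
    have e : P (a * b) = P a * P b + (ε a • P b + ε b • P a) := by
      simp only [hP, Algebra.smul_def, map_mul]
      ring
    rw [e, map_add, map_add, hφ' _ (pow_two I ▸ Ideal.mul_mem_mul (hPI a) (hPI b)), map_smul, map_smul, zero_add]
    rfl
  have h2 := h _ ht
  rwa [LinearMap.comp_apply, hP, hx, map_zero, sub_zero] at h2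

/-- Components are additive. -/
theorem comp_add (m : Λ) (a b : A) : comp f m (a + b) = comp f m a + comp f m b := by
  simp [comp, map_add]

variable [IsDomain A] [IsNoetherianRing A]

/-- Weights outside a subgroup which are invisible on tangent vectors are absent. -/
theorem comp_eq_zero (N : Subgroup Λ)
    (hkill : ∀ δ : A →ₗ[k] k, IsTangent δ → ∀ m ∉ N, ∀ a, δ (comp f m a) = 0)
    (m : Λ) (hm : m ∉ N) (a : A) : comp f m a = 0 := by
  classical
  let ε := Bialgebra.counitAlgHom k A
  let I : Ideal A := RingHom.ker ε.toRingHom
  have hmem : ∀ (l : Λ) (b : A), l ∉ N → comp f l b ∈ I := fun l b hl => by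
    show ε (comp f l b) = 0
    rw [counit_comp, if_neg fun h : l = 1 => hl (h ▸ N.one_mem)]
  have hI : ∀ (l : Λ) (b : A), ε b = 0 → comp f l b ∈ I := fun l b hb => by
    show ε (comp f l b) = 0
    rw [counit_comp, hb, ite_self]
  have hQ : ∀ n : ℕ, ∀ l ∉ N, ∀ b, comp f l b ∈ I ^ (n + 1) := by
    intro n
    induction n with
    | zero => intro l hl b; rw [zero_add, pow_one]; exact hmem l b hl
    | succ n ih =>
      intro l hl b
      have hx : comp f l b ∈ I ^ 2 := mem_sq _ (hmem l b hl) fun δ hδ => hkill δ hδ l hl b
      have key : ∀ z ∈ I * I, comp f l z ∈ I ^ (n + 1 + 1) := by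
        intro z hz
        refine Submodule.mul_induction_on hz (fun p hp q hq => ?_) fun p q hp hq => ?_
        · rw [show comp f l (p * q) = (coact f p * coact f q).coeff l by rw [comp, map_mul]]
          rw [MonoidAlgebra.coeff_mul]
          simp only [Finsupp.sum]
          refine Ideal.sum_mem _ fun i _ => Ideal.sum_mem _ fun j _ => ?_
          split_ifs with hij
          · rw [show (coact f p).coeff i = comp f i p from rfl, show (coact f q).coeff j = comp f j q from rfl]
            by_cases hi : i ∈ N
            · have hj : j ∉ N := fun hj => hl (hij ▸ N.mul_mem hi hj)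
              rw [_root_.mul_comm, pow_succ]
              exact Ideal.mul_mem_mul (ih j hj q) (hI i p hp)
            · rw [pow_succ]
              exact Ideal.mul_mem_mul (ih i hi p) (hI j q hq)
          · exact zero_mem _
        · rw [comp_add]
          exact add_mem hp hq
      have h2 := key _ (pow_two I ▸ hx)
      rwa [comp_comp, if_pos rfl] at h2
  have hmem' : comp f m a ∈ ⨅ n : ℕ, I ^ n := Ideal.mem_iInf.mpr fun n => by
    cases n with
    | zero => simp
    | succ n => exact hQ n m hm a
  rwa [Ideal.iInf_pow_eq_bot_of_isDomain I (RingHom.ker_ne_top _), Ideal.mem_bot] at hmem'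

omit [IsDomain A] [IsNoetherianRing A] in
/-- The subgroup cut out by weights carrying all components is central. -/
theorem conj_eq_self (N : Subgroup Λ) (hN : ∀ m ∉ N, ∀ a, comp f m a = 0) {B : Type u} [CommRing B] [Algebra k B]
    (χ : Λ →* B) (hχ : ∀ m ∈ N, χ m = 1) (g : A →ₐ[k] B) : conj f χ (toConv g) = toConv g := by
  classical
  refine WithConv.ext (AlgHom.ext fun a => ?_)
  rw [conj_apply]
  conv_rhs => rw [← sum_comp f a]
  show _ = g _
  rw [map_finsuppSum]
  refine Finsupp.sum_congr fun m _ => ?_
  by_cases hm : m ∈ N
  · rw [hχ m hm, _root_.mul_one]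
  · rw [show (coact f a).coeff m = 0 from hN m hm a, map_zero, zero_mul]

end Groth.Agent.LieCentral
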